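import Cfsg.Agent.H576.E8L.Str

/-!
# S5925: coordinates of `C_L(h) = sl(W0) + sl(W1)` (helper576)

`w0, s0, w1, s1`: root indices and signs of the two `A₄` of the roots `r` with `r(h) = 1` (tools/plans/S5925_code/frame.txt);
`io (A0, A1) = Σ_{i ≠ j} A_t i j • (s_t i j e_(w_t i j)) + Σ_{a < 4} (A_t 0 0 + ... + A_t a a) • h_(w_t a (a+1))`.
-/

set_option autoImplicit false
set_option linter.unusedSectionVars false
set_option linter.unusedVariables false
set_option linter.style.longLine false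
set_option linter.unusedSimpArgs false

namespace Cfsg.Agent.H576.E8L

open Matrix Cfsg Cfsg.Lie Cfsg.Agent.ChevalleyStructure Cfsg.Agent.ChevalleyStructure.Elts
open Cfsg.Agent.H992.E8X Cfsg.Agent.H238.E8
open Cfsg.Agent.ChevalleyStructure.SparseEng (bvec act evalAct xMat_mulVec)

/-- root indices of `W0` -/
def w0 : Fin 5 → Fin 5 → ℕ := ![![0, 31, 6, 64, 24], ![208, 0, 60, 151, 108], ![233, 179, 0, 212, 172], ![175, 88, 27, 0, 81], ![215, 131, 67, 158, 0]]
/-- signs of `W0` -/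
def s0 : Fin 5 → Fin 5 → ℤ := ![![1, 1, 1, -1, 1], ![1, 1, 1, -1, -1], ![1, 1, 1, 1, 1], ![-1, -1, 1, 1, 1], ![1, -1, 1, 1, 1]]
/-- root indices of `W1` -/
def w1 : Fin 5 → Fin 5 → ℕ := ![![0, 7, 20, 51, 55], ![232, 0, 168, 199, 203], ![219, 71, 0, 154, 159], ![188, 40, 85, 0, 127], ![184, 36, 80, 112, 0]]
/-- signs of `W1` -/
def s1 : Fin 5 → Fin 5 → ℤ := ![![1, 1, -1, -1, 1], ![1, 1, 1, -1, 1], ![-1, 1, 1, 1, -1], ![-1, -1, 1, 1, 1], ![1, 1, -1, 1, 1]]

section
variable (K : Type*) [Field K]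

/-- the coroot vector `h_r` -/
def hv (r : ℕ) : chevE8.Idx → K :=
  Sum.elim (fun i => (((chevE8Coroot.getD r #[]).getD i.val 0 : ℤ) : K)) (fun _ => 0)

variable {K}

/-- partial sums of the diagonal -/
def ps (A : Matrix (Fin 5) (Fin 5) K) (b : Fin 4) : K := ∑ c : Fin 5, if c ≤ b.castSucc then A c c else 0

variable (K)

/-- one `gl₅` block -/
def WM (w : Fin 5 → Fin 5 → ℕ) (s : Fin 5 → Fin 5 → ℤ) : Matrix (Fin 5) (Fin 5) K →ₗ[K] (chevE8.Idx → K) where
  toFun A := (∑ i, ∑ j, if i = j then 0 else ((s i j : K) * A i j) • rv K (w i j)) +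
    ∑ b : Fin 4, ps A b • hv K (w b.castSucc b.succ)
  map_add' A B := by
    have e1 : ∀ i j : Fin 5, (if i = j then (0 : chevE8.Idx → K) else ((s i j : K) * (A + B) i j) • rv K (w i j)) =
        (if i = j then 0 else ((s i j : K) * A i j) • rv K (w i j)) +
          (if i = j then 0 else ((s i j : K) * B i j) • rv K (w i j)) := by
      intro i j
      split_ifs
      · simp
      · rw [Matrix.add_apply, mul_add, add_smul]
    have e2 : ∀ b : Fin 4, ps (A + B) b = ps A b + ps B b := by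
      intro b
      unfold ps
      rw [← Finset.sum_add_distrib]
      refine Finset.sum_congr rfl fun c _ => ?_
      split_ifs
      · rfl
      · simp
    simp only [e1, e2, Finset.sum_add_distrib, add_smul]
    abel
  map_smul' c A := by
    have e1 : ∀ i j : Fin 5, (if i = j then (0 : chevE8.Idx → K) else ((s i j : K) * (c • A) i j) • rv K (w i j)) =
        c • (if i = j then 0 else ((s i j : K) * A i j) • rv K (w i j)) := by
      intro i j
      split_ifs
      · simp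
      · rw [Matrix.smul_apply, smul_eq_mul, smul_smul, mul_left_comm]
    have e2 : ∀ b : Fin 4, ps (c • A) b = c * ps A b := by
      intro b
      unfold ps
      rw [Finset.mul_sum]
      refine Finset.sum_congr rfl fun d _ => ?_
      split_ifs
      · rfl
      · simp
    simp only [e1, e2, RingHom.id_apply, smul_add, Finset.smul_sum, smul_smul]

/-- coordinates of `C_L(h)` -/
def io : (Matrix (Fin 5) (Fin 5) K × Matrix (Fin 5) (Fin 5) K) →ₗ[K] (chevE8.Idx → K) :=
  (WM K w0 s0).coprod (WM K w1 s1)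

variable {K}

theorem WM_apply (w : Fin 5 → Fin 5 → ℕ) (s : Fin 5 → Fin 5 → ℤ) (A : Matrix (Fin 5) (Fin 5) K) :
    WM K w s A = (∑ i, ∑ j, if i = j then 0 else ((s i j : K) * A i j) • rv K (w i j)) +
      ∑ b : Fin 4, ps A b • hv K (w b.castSucc b.succ) := rfl

theorem io_apply (A : Matrix (Fin 5) (Fin 5) K × Matrix (Fin 5) (Fin 5) K) :
    io K A = WM K w0 s0 A.1 + WM K w1 s1 A.2 := rfl

theorem rv_inl (r : ℕ) (i : Fin chevE8.rank) : rv K r (Sum.inl i) = 0 := by
  unfold rv bvec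
  have : i.val < 8 := i.isLt
  simp only
  rw [if_neg (by omega)]

theorem rv_inr (r : ℕ) (u : Fin chevE8.nroots) : rv K r (Sum.inr u) = if u.val = r then 1 else 0 := by
  unfold rv bvec
  simp only
  have : chevE8.rank = 8 := rfl
  by_cases h : u.val = r
  · rw [if_pos h, if_pos (by omega)]
  · rw [if_neg h, if_neg (by omega)]

theorem hv_inr (r : ℕ) (u : Fin chevE8.nroots) : hv K r (Sum.inr u) = 0 := rfl

theorem hv_inl (r : ℕ) (i : Fin chevE8.rank) :
    hv K r (Sum.inl i) = (((chevE8Coroot.getD r #[]).getD i.val 0 : ℤ) : K) := rfl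

theorem WM_inr (w : Fin 5 → Fin 5 → ℕ) (s : Fin 5 → Fin 5 → ℤ) (A : Matrix (Fin 5) (Fin 5) K)
    (u : Fin chevE8.nroots) :
    WM K w s A (Sum.inr u) = ∑ i, ∑ j, if i ≠ j ∧ u.val = w i j then (s i j : K) * A i j else 0 := by
  rw [WM_apply, Pi.add_apply, Finset.sum_apply, Finset.sum_apply]
  have e2 : ∑ b : Fin 4, (ps A b • hv K (w b.castSucc b.succ)) (Sum.inr u) = 0 := by
    apply Finset.sum_eq_zero
    intro b _
    rw [Pi.smul_apply, hv_inr, smul_zero]
  rw [e2, add_zero]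
  refine Finset.sum_congr rfl fun i _ => ?_
  rw [Finset.sum_apply]
  refine Finset.sum_congr rfl fun j _ => ?_
  by_cases h : i = j
  · rw [if_pos h, if_neg (fun h' => h'.1 h)]; rfl
  · rw [if_neg h, Pi.smul_apply, rv_inr, smul_eq_mul]
    by_cases h2 : u.val = w i j
    · rw [if_pos h2, if_pos ⟨h, h2⟩, mul_one]
    · rw [if_neg h2, if_neg (fun h' => h2 h'.2), mul_zero]

theorem WM_inl (w : Fin 5 → Fin 5 → ℕ) (s : Fin 5 → Fin 5 → ℤ) (A : Matrix (Fin 5) (Fin 5) K)
    (i : Fin chevE8.rank) :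
    WM K w s A (Sum.inl i) =
      ∑ b : Fin 4, ps A b * (((chevE8Coroot.getD (w b.castSucc b.succ) #[]).getD i.val 0 : ℤ) : K) := by
  rw [WM_apply, Pi.add_apply, Finset.sum_apply, Finset.sum_apply]
  have e2 : ∑ a : Fin 5, (∑ j, if a = j then (0 : chevE8.Idx → K) else ((s a j : K) * A a j) • rv K (w a j)) (Sum.inl i)
      = 0 := by
    apply Finset.sum_eq_zero
    intro b _
    rw [Finset.sum_apply]
    apply Finset.sum_eq_zero
    intro j _
    split_ifs
    · rfl
    · rw [Pi.smul_apply, rv_inl, smul_zero]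
  rw [e2, zero_add]
  refine Finset.sum_congr rfl fun b _ => ?_
  rw [Pi.smul_apply, hv_inl, smul_eq_mul]

theorem w0_lt (i j : Fin 5) : w0 i j < 240 := by revert i j; decide
theorem w1_lt (i j : Fin 5) : w1 i j < 240 := by revert i j; decide
theorem w0_inj : ∀ i j i' j' : Fin 5, i ≠ j → i' ≠ j' → w0 i j = w0 i' j' → i = i' ∧ j = j' := by decide +kernel
theorem w1_inj : ∀ i j i' j' : Fin 5, i ≠ j → i' ≠ j' → w1 i j = w1 i' j' → i = i' ∧ j = j' := by decide +kernel
theorem w01_ne : ∀ i j i' j' : Fin 5, i ≠ j → i' ≠ j' → w0 i j ≠ w1 i' j' := by decide +kernel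
theorem s0_sq : ∀ i j : Fin 5, s0 i j * s0 i j = 1 := by decide +kernel
theorem s1_sq : ∀ i j : Fin 5, s1 i j * s1 i j = 1 := by decide +kernel

theorem s0_sqK (i j : Fin 5) : (s0 i j : K) * (s0 i j : K) = 1 := by
  exact_mod_cast congrArg (Int.cast (R := K)) (s0_sq i j)
theorem s1_sqK (i j : Fin 5) : (s1 i j : K) * (s1 i j : K) = 1 := by
  exact_mod_cast congrArg (Int.cast (R := K)) (s1_sq i j)

theorem WM_inr_self {w : Fin 5 → Fin 5 → ℕ} {s : Fin 5 → Fin 5 → ℤ}
    (hw : ∀ i j i' j' : Fin 5, i ≠ j → i' ≠ j' → w i j = w i' j' → i = i' ∧ j = j')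
    (A : Matrix (Fin 5) (Fin 5) K) {i j : Fin 5} (hij : i ≠ j) {u : Fin chevE8.nroots} (hu : u.val = w i j) :
    WM K w s A (Sum.inr u) = (s i j : K) * A i j := by
  rw [WM_inr, Finset.sum_eq_single i, Finset.sum_eq_single j]
  · rw [if_pos ⟨hij, hu⟩]
  · intro b _ hb
    rw [if_neg]
    rintro ⟨h1, h2⟩
    exact hb ((hw i b i j h1 hij (h2.symm.trans hu)).2)
  · intro h; exact absurd (Finset.mem_univ _) h
  · intro b _ hb
    apply Finset.sum_eq_zero
    intro c _
    rw [if_neg]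
    rintro ⟨h1, h2⟩
    exact hb ((hw b c i j h1 hij (h2.symm.trans hu)).1)
  · intro h; exact absurd (Finset.mem_univ _) h

theorem WM_inr_out {w : Fin 5 → Fin 5 → ℕ} {s : Fin 5 → Fin 5 → ℤ} (A : Matrix (Fin 5) (Fin 5) K)
    {u : Fin chevE8.nroots} (hu : ∀ i j, i ≠ j → u.val ≠ w i j) : WM K w s A (Sum.inr u) = 0 := by
  rw [WM_inr]
  apply Finset.sum_eq_zero
  intro i _
  apply Finset.sum_eq_zero
  intro j _
  rw [if_neg]
  rintro ⟨h1, h2⟩
  exact hu i j h1 h2

theorem io_root0 (A0 A1 : Matrix (Fin 5) (Fin 5) K) {i j : Fin 5} (hij : i ≠ j) {u : Fin chevE8.nroots}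
    (hu : u.val = w0 i j) : io K (A0, A1) (Sum.inr u) = (s0 i j : K) * A0 i j := by
  rw [io_apply, Pi.add_apply, WM_inr_self w0_inj A0 hij hu, WM_inr_out, add_zero]
  intro i' j' h' h
  exact w01_ne i j i' j' hij h' (hu.symm.trans h)

theorem io_root1 (A0 A1 : Matrix (Fin 5) (Fin 5) K) {i j : Fin 5} (hij : i ≠ j) {u : Fin chevE8.nroots}
    (hu : u.val = w1 i j) : io K (A0, A1) (Sum.inr u) = (s1 i j : K) * A1 i j := by
  rw [io_apply, Pi.add_apply, WM_inr_self w1_inj A1 hij hu, WM_inr_out, zero_add]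
  intro i' j' h' h
  exact w01_ne i' j' i j h' hij (h.symm.trans hu)

theorem io_root_out (A : Matrix (Fin 5) (Fin 5) K × Matrix (Fin 5) (Fin 5) K) {u : Fin chevE8.nroots}
    (h0 : ∀ i j, i ≠ j → u.val ≠ w0 i j) (h1 : ∀ i j, i ≠ j → u.val ≠ w1 i j) : io K A (Sum.inr u) = 0 := by
  rw [io_apply, Pi.add_apply, WM_inr_out A.1 h0, WM_inr_out A.2 h1, add_zero]

/-- coroot coordinates of the eight simple roots of `W0`, `W1` -/
def hc : Fin 8 → Fin 8 → ℤ := fun b i =>
  if h : b.val < 4 then (chevE8Coroot.getD (w0 ⟨b.val, by omega⟩ ⟨b.val + 1, by omega⟩) #[]).getD i.val 0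
  else (chevE8Coroot.getD (w1 ⟨b.val - 4, by omega⟩ ⟨b.val - 3, by omega⟩) #[]).getD i.val 0

/-- inverse of `hc` modulo 3 -/
def hd : Fin 8 → Fin 8 → ℤ := ![![-1, 1, 1, 1, -1, 1, -1, 1], ![-1, -1, -1, 1, -1, 0, -1, 1], ![0, 0, -1, 1, 1, 0, -1, 1], ![-1, 1, 0, 0, -1, 1, 0, 1], ![1, 1, -1, -1, 1, -1, 0, -1], ![-1, -1, 1, 1, -1, 1, 0, -1], ![0, -1, -1, 1, -1, 1, 0, 1], ![-1, -1, 1, 0, -1, 1, -1, 1]]

theorem hc_hd : ∀ b b' : Fin 8, ((∑ i, hc b i * hd i b') - if b = b' then 1 else 0) % 3 = 0 := by decide +kernel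
theorem hd_hc : ∀ i i' : Fin 8, ((∑ b, hd i b * hc b i') - if i = i' then 1 else 0) % 3 = 0 := by decide +kernel

theorem cast_mod3 [CharP K 3] {z : ℤ} (h : z % 3 = 0) : (z : K) = 0 := by
  obtain ⟨m, rfl⟩ := Int.dvd_of_emod_eq_zero h
  push_cast
  have : (3 : K) = 0 := by exact_mod_cast CharP.cast_eq_zero K 3
  rw [this, zero_mul]

theorem hc_hdK [CharP K 3] (b b' : Fin 8) : ∑ i, (hc b i : K) * (hd i b' : K) = if b = b' then 1 else 0 := by
  have h := cast_mod3 (K := K) (hc_hd b b')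
  push_cast at h
  rw [sub_eq_zero] at h
  exact h

theorem hd_hcK [CharP K 3] (i i' : Fin 8) : ∑ b, (hd i b : K) * (hc b i' : K) = if i = i' then 1 else 0 := by
  have h := cast_mod3 (K := K) (hd_hc i i')
  push_cast at h
  rw [sub_eq_zero] at h
  exact h

/-- the eight partial sums -/
def ps8 (A : Matrix (Fin 5) (Fin 5) K × Matrix (Fin 5) (Fin 5) K) (b : Fin 8) : K :=
  if h : b.val < 4 then ps A.1 ⟨b.val, h⟩ else ps A.2 ⟨b.val - 4, by omega⟩

theorem io_inl (A : Matrix (Fin 5) (Fin 5) K × Matrix (Fin 5) (Fin 5) K) (i : Fin chevE8.rank) :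
    io K A (Sum.inl i) = ∑ b : Fin 8, ps8 A b * (hc b i : K) := by
  rw [io_apply, Pi.add_apply, WM_inl, WM_inl]
  refine Eq.trans ?_ (Fin.sum_univ_add (a := 4) (b := 4) (fun b : Fin 8 => ps8 A b * (hc b i : K))).symm
  refine congrArg₂ (fun y z : K => y + z) ?_ ?_
  · refine Finset.sum_congr rfl fun b _ => ?_
    have hb : (Fin.castAdd 4 b).val < 4 := b.isLt
    unfold ps8 hc
    rw [dif_pos hb, dif_pos hb]
    rfl
  · refine Finset.sum_congr rfl fun b _ => ?_
    have hb : ¬ (Fin.natAdd 4 b).val < 4 := by simp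
    unfold ps8 hc
    rw [dif_neg hb, dif_neg hb]
    have e1 : (⟨(Fin.natAdd 4 b).val - 4, by omega⟩ : Fin 4) = b := Fin.ext (by simp)
    have e2 : (⟨(Fin.natAdd 4 b).val - 4, by omega⟩ : Fin 5) = b.castSucc := Fin.ext (by simp)
    have e3 : (⟨(Fin.natAdd 4 b).val - 3, by omega⟩ : Fin 5) = b.succ := Fin.ext (by simp)
    rw [e1, e2, e3]

theorem ps8_eq [CharP K 3] (A : Matrix (Fin 5) (Fin 5) K × Matrix (Fin 5) (Fin 5) K) (b : Fin 8) :
    ps8 A b = ∑ i : Fin 8, io K A (Sum.inl (i : Fin chevE8.rank)) * (hd i b : K) := by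
  have e : ∀ i : Fin 8, io K A (Sum.inl (i : Fin chevE8.rank)) * (hd i b : K) =
      ∑ b', ps8 A b' * ((hc b' i : K) * (hd i b : K)) := by
    intro i
    refine (congrArg (fun z : K => z * (hd i b : K)) (io_inl A (i : Fin chevE8.rank))).trans ?_
    rw [Finset.sum_mul]
    exact Finset.sum_congr rfl fun b' _ => by ring
  rw [Finset.sum_congr rfl fun i _ => e i, Finset.sum_comm]
  simp only [← Finset.mul_sum, hc_hdK]
  rw [Finset.sum_eq_single b]
  · simp
  · intro b' _ hb; rw [if_neg hb, mul_zero]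
  · intro h; exact absurd (Finset.mem_univ _) h

theorem diag_zero {A : Matrix (Fin 5) (Fin 5) K} (ht : A.trace = 0) (h : ∀ b, ps A b = 0) (c : Fin 5) : A c c = 0 := by
  have e0 := h 0
  have e1 := h 1
  have e2 := h 2
  have e3 := h 3
  unfold ps at e0 e1 e2 e3
  rw [Fin.sum_univ_five] at e0 e1 e2 e3
  rw [Matrix.trace, Fin.sum_univ_five] at ht
  simp only [Matrix.diag_apply] at ht
  have d0 : A 0 0 = 0 := by simpa [Fin.le_def] using e0
  have d1 : A 0 0 + A 1 1 = 0 := by simpa [Fin.le_def] using e1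
  have d2 : A 0 0 + A 1 1 + A 2 2 = 0 := by simpa [Fin.le_def] using e2
  have d3 : A 0 0 + A 1 1 + A 2 2 + A 3 3 = 0 := by simpa [Fin.le_def] using e3
  have f1 : A 1 1 = 0 := by rw [d0, zero_add] at d1; exact d1
  have f2 : A 2 2 = 0 := by rw [d1, zero_add] at d2; exact d2
  have f3 : A 3 3 = 0 := by rw [d2, zero_add] at d3; exact d3
  have f4 : A 4 4 = 0 := by rw [d3, zero_add] at ht; exact ht
  fin_cases c
  · exact d0
  · exact f1
  · exact f2
  · exact f3
  · exact f4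

theorem io_ker [CharP K 3] {A0 A1 : Matrix (Fin 5) (Fin 5) K} (h0 : A0.trace = 0) (h1 : A1.trace = 0)
    (h : io K (A0, A1) = 0) : A0 = 0 ∧ A1 = 0 := by
  have hp : ∀ b, ps8 (A0, A1) b = 0 := by
    intro b
    rw [ps8_eq, h]
    simp
  have hp0 : ∀ b : Fin 4, ps A0 b = 0 := by
    intro b
    have := hp ⟨b.val, by omega⟩
    unfold ps8 at this
    rw [dif_pos b.isLt] at this
    exact this
  have hp1 : ∀ b : Fin 4, ps A1 b = 0 := by
    intro b
    have := hp ⟨b.val + 4, by omega⟩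
    unfold ps8 at this
    rw [dif_neg (by simp)] at this
    simpa using this
  constructor
  · ext i j
    by_cases hij : i = j
    · subst hij; exact diag_zero h0 hp0 i
    · have := io_root0 A0 A1 hij (u := ⟨w0 i j, w0_lt i j⟩) rfl
      rw [h, Pi.zero_apply] at this
      have e := congrArg (fun z => (s0 i j : K) * z) this
      simp only [mul_zero] at e
      rw [← mul_assoc, s0_sqK, one_mul] at e
      exact e.symm
  · ext i j
    by_cases hij : i = j
    · subst hij; exact diag_zero h1 hp1 i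
    · have := io_root1 A0 A1 hij (u := ⟨w1 i j, w1_lt i j⟩) rfl
      rw [h, Pi.zero_apply] at this
      have e := congrArg (fun z => (s1 i j : K) * z) this
      simp only [mul_zero] at e
      rw [← mul_assoc, s1_sqK, one_mul] at e
      exact e.symm

theorem io_inj [CharP K 3] {A0 A1 B0 B1 : Matrix (Fin 5) (Fin 5) K} (h0 : A0.trace = 0) (h1 : A1.trace = 0)
    (g0 : B0.trace = 0) (g1 : B1.trace = 0) (h : io K (A0, A1) = io K (B0, B1)) : A0 = B0 ∧ A1 = B1 := by
  have h2 : io K (A0 - B0, A1 - B1) = 0 := by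
    have : (A0 - B0, A1 - B1) = (A0, A1) - (B0, B1) := rfl
    rw [this, map_sub, h, sub_self]
  obtain ⟨e0, e1⟩ := io_ker (by rw [Matrix.trace_sub, h0, g0, sub_zero]) (by rw [Matrix.trace_sub, h1, g1, sub_zero]) h2
  exact ⟨sub_eq_zero.1 e0, sub_eq_zero.1 e1⟩

/-- vectors supported on the roots of `W0`, `W1` and the Cartan coordinates -/
def Supp (v : chevE8.Idx → K) : Prop :=
  ∀ u : Fin chevE8.nroots, (∀ i j, i ≠ j → u.val ≠ w0 i j) → (∀ i j, i ≠ j → u.val ≠ w1 i j) → v (Sum.inr u) = 0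

theorem supp_io (A : Matrix (Fin 5) (Fin 5) K × Matrix (Fin 5) (Fin 5) K) : Supp (io K A) :=
  fun _ h0 h1 => io_root_out A h0 h1

/-- the inverse map -/
def oi (w : Fin 5 → Fin 5 → ℕ) (s : Fin 5 → Fin 5 → ℤ) (hw : ∀ i j, w i j < 240) (q : Fin 4 → K)
    (v : chevE8.Idx → K) : Matrix (Fin 5) (Fin 5) K :=
  Matrix.of fun i j => if i = j then
      (if h : i.val < 4 then q ⟨i.val, h⟩ else 0) - (if h : 0 < i.val then q ⟨i.val - 1, by omega⟩ else 0)
    else (s i j : K) * v (Sum.inr ⟨w i j, hw i j⟩)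

theorem oi_trace (w : Fin 5 → Fin 5 → ℕ) (s : Fin 5 → Fin 5 → ℤ) (hw : ∀ i j, w i j < 240) (q : Fin 4 → K)
    (v : chevE8.Idx → K) : (oi w s hw q v).trace = 0 := by
  rw [Matrix.trace, Fin.sum_univ_five]
  simp only [Matrix.diag_apply, oi, Matrix.of_apply, if_true]
  simp

theorem oi_ps (w : Fin 5 → Fin 5 → ℕ) (s : Fin 5 → Fin 5 → ℤ) (hw : ∀ i j, w i j < 240) (q : Fin 4 → K)
    (v : chevE8.Idx → K) (b : Fin 4) : ps (oi w s hw q v) b = q b := by
  unfold ps
  rw [Fin.sum_univ_five]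
  simp only [oi, Matrix.of_apply, if_true]
  fin_cases b
  · simp [Fin.le_def]
  · simp [Fin.le_def]
  · simp [Fin.le_def]
  · simp [Fin.le_def]

theorem io_surj [CharP K 3] {v : chevE8.Idx → K} (hv : Supp v) :
    ∃ A0 A1 : Matrix (Fin 5) (Fin 5) K, A0.trace = 0 ∧ A1.trace = 0 ∧ io K (A0, A1) = v := by
  let q : Fin 8 → K := fun b => ∑ i : Fin 8, v (Sum.inl i) * (hd i b : K)
  let A0 := oi w0 s0 w0_lt (fun b => q ⟨b.val, by omega⟩) v
  let A1 := oi w1 s1 w1_lt (fun b => q ⟨b.val + 4, by omega⟩) v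
  refine ⟨A0, A1, oi_trace _ _ _ _ _, oi_trace _ _ _ _ _, ?_⟩
  funext a
  rcases a with i | u
  · refine (io_inl (K := K) (A0, A1) i).trans ?_
    have e : ∀ b : Fin 8, ps8 (A0, A1) b = q b := by
      intro b
      unfold ps8
      split_ifs with h
      · exact oi_ps w0 s0 w0_lt (fun b => q ⟨b.val, by omega⟩) v ⟨b.val, h⟩
      · refine (oi_ps w1 s1 w1_lt (fun b => q ⟨b.val + 4, by omega⟩) v ⟨b.val - 4, by omega⟩).trans ?_
        show q _ = q _
        congr 1
        apply Fin.ext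
        show b.val - 4 + 4 = b.val
        omega
    simp only [e]
    show ∑ b : Fin 8, (∑ i' : Fin 8, v (Sum.inl i') * (hd i' b : K)) * (hc b i : K) = _
    simp only [Finset.sum_mul]
    rw [Finset.sum_comm]
    obtain ⟨k, hk⟩ : ∃ k : Fin 8, k = i := ⟨i, rfl⟩
    have e2 : ∀ i' : Fin 8, ∑ b : Fin 8, v (Sum.inl i') * (hd i' b : K) * (hc b k : K) =
        v (Sum.inl i') * if i' = k then 1 else 0 := by
      intro i'
      rw [← hd_hcK (K := K) i' k, Finset.mul_sum]
      exact Finset.sum_congr rfl fun b _ => by ring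
    subst hk
    refine (Finset.sum_congr rfl fun i' _ => e2 i').trans ?_
    rw [Finset.sum_eq_single k]
    · rw [if_pos rfl, mul_one]
    · intro b _ hb; rw [if_neg hb, mul_zero]
    · intro h; exact absurd (Finset.mem_univ _) h
  · by_cases h0 : ∃ i j, i ≠ j ∧ u.val = w0 i j
    · obtain ⟨i, j, hij, hu⟩ := h0
      rw [io_root0 A0 A1 hij hu]
      show (s0 i j : K) * (oi w0 s0 w0_lt _ v) i j = _
      simp only [oi, Matrix.of_apply, if_neg hij]
      rw [← mul_assoc, s0_sqK, one_mul]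
      congr 2
      exact Fin.ext hu.symm
    · by_cases h1 : ∃ i j, i ≠ j ∧ u.val = w1 i j
      · obtain ⟨i, j, hij, hu⟩ := h1
        rw [io_root1 A0 A1 hij hu]
        show (s1 i j : K) * (oi w1 s1 w1_lt _ v) i j = _
        simp only [oi, Matrix.of_apply, if_neg hij]
        rw [← mul_assoc, s1_sqK, one_mul]
        congr 2
        exact Fin.ext hu.symm
      · push Not at h0 h1
        rw [io_root_out _ h0 h1, hv u h0 h1]

/-- compatibility with ring homomorphisms (e.g. Frobenius) -/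
theorem io_map {K' : Type*} [Field K'] (f : K →+* K') (A0 A1 : Matrix (Fin 5) (Fin 5) K) (a : chevE8.Idx) :
    io K' (A0.map f, A1.map f) a = f (io K (A0, A1) a) := by
  have hps : ∀ (A : Matrix (Fin 5) (Fin 5) K) (b : Fin 4), ps (A.map f) b = f (ps A b) := by
    intro A b
    unfold ps
    rw [map_sum]
    refine Finset.sum_congr rfl fun c _ => ?_
    split_ifs
    · rfl
    · simp
  have hW : ∀ (w : Fin 5 → Fin 5 → ℕ) (s : Fin 5 → Fin 5 → ℤ) (A : Matrix (Fin 5) (Fin 5) K),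
      WM K' w s (A.map f) a = f (WM K w s A a) := by
    intro w s A
    rcases a with i | u
    · rw [WM_inl, WM_inl, map_sum]
      refine Finset.sum_congr rfl fun b _ => ?_
      rw [hps, map_mul, map_intCast]
    · rw [WM_inr, WM_inr, map_sum]
      refine Finset.sum_congr rfl fun i _ => ?_
      rw [map_sum]
      refine Finset.sum_congr rfl fun j _ => ?_
      split_ifs
      · rw [map_mul, map_intCast]; rfl
      · simp
  rw [io_apply, io_apply, Pi.add_apply, Pi.add_apply, map_add, hW, hW]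

end

end Cfsg.Agent.H576.E8L
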