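import Mathlib

/-!
# `F₃[g] / (g⁴ + g - 1)` on 4-tuples of integers (helper576)
-/

set_option autoImplicit false
set_option linter.style.longLine false

namespace Cfsg.Agent.H576.E8L

/-- 4-tuples of integers -/
structure T4 where
  a : ℤ
  b : ℤ
  c : ℤ
  d : ℤ
deriving DecidableEq

namespace T4

def red (x : T4) : T4 := ⟨x.a % 3, x.b % 3, x.c % 3, x.d % 3⟩
def zero : T4 := ⟨0, 0, 0, 0⟩
def one : T4 := ⟨1, 0, 0, 0⟩
def add (x y : T4) : T4 := red ⟨x.a + y.a, x.b + y.b, x.c + y.c, x.d + y.d⟩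
def sm (n : ℤ) (x : T4) : T4 := red ⟨n * x.a, n * x.b, n * x.c, n * x.d⟩
/-- multiplication by `g` -/
def mg (x : T4) : T4 := red ⟨x.d, x.a - x.d, x.b, x.c⟩
def mul (x y : T4) : T4 :=
  add (add (sm x.a y) (sm x.b (mg y))) (add (sm x.c (mg (mg y))) (sm x.d (mg (mg (mg y)))))
def gp : ℕ → T4
  | 0 => one
  | n + 1 => mg (gp n)

section
variable {K : Type*} [Field K]

/-- evaluation at `g` -/
def ev (g : K) (x : T4) : K := x.a + x.b * g + x.c * g ^ 2 + x.d * g ^ 3

variable {g : K}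

theorem cast_emod (h3 : (3 : K) = 0) (n : ℤ) : ((n % 3 : ℤ) : K) = n := by
  have e := Int.emod_add_mul_ediv n 3
  have e2 := congrArg (Int.cast (R := K)) e
  push_cast at e2
  rw [h3, zero_mul, add_zero] at e2
  exact e2

theorem ev_red (h3 : (3 : K) = 0) (x : T4) : ev g (red x) = ev g x := by
  unfold ev red
  simp only [cast_emod h3]

theorem ev_zero : ev g zero = 0 := by simp [ev, zero]
theorem ev_one : ev g one = 1 := by simp [ev, one]

theorem ev_add (h3 : (3 : K) = 0) (x y : T4) : ev g (add x y) = ev g x + ev g y := by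
  unfold add
  rw [ev_red h3]
  unfold ev
  push_cast
  ring

theorem ev_sm (h3 : (3 : K) = 0) (n : ℤ) (x : T4) : ev g (sm n x) = n * ev g x := by
  unfold sm
  rw [ev_red h3]
  unfold ev
  push_cast
  ring

theorem ev_mg (hg : g ^ 4 = 1 - g) (h3 : (3 : K) = 0) (x : T4) : ev g (mg x) = g * ev g x := by
  unfold mg
  rw [ev_red h3]
  unfold ev
  push_cast
  linear_combination (-(x.d : K)) * hg

theorem ev_mul (hg : g ^ 4 = 1 - g) (h3 : (3 : K) = 0) (x y : T4) : ev g (mul x y) = ev g x * ev g y := by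
  unfold mul
  rw [ev_add h3, ev_add h3, ev_add h3, ev_sm h3, ev_sm h3, ev_sm h3, ev_sm h3, ev_mg hg h3, ev_mg hg h3, ev_mg hg h3,
    ev_mg hg h3, ev_mg hg h3, ev_mg hg h3]
  unfold ev
  ring

theorem ev_gp (hg : g ^ 4 = 1 - g) (h3 : (3 : K) = 0) (n : ℕ) : ev g (gp n) = g ^ n := by
  induction n with
  | zero => exact ev_one.trans (pow_zero g).symm
  | succ n ih =>
    show ev g (mg (gp n)) = _
    rw [ev_mg hg h3, ih, pow_succ']

/-- sums over a list -/
def sum : List T4 → T4
  | [] => zero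
  | x :: l => add x (sum l)

theorem ev_sum (h3 : (3 : K) = 0) (l : List T4) : ev g (sum l) = (l.map (ev g)).sum := by
  induction l with
  | nil => exact ev_zero
  | cons x l ih =>
    show ev g (add x (sum l)) = _
    rw [ev_add h3, ih, List.map_cons, List.sum_cons]

end

end T4

end Cfsg.Agent.H576.E8L
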